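import Mathlib

/-!
# Gluing sections of a sheaf along two arrows (helper2)

Generic site-theoretic lemmas used for the Mayer–Vietoris sequence of an elementary
distinguished square: gluing a pair of sections along a "two arrow" covering whose first arrow
is a monomorphism, and the two special cases needed for products `U ⨯ W`, `V ⨯ W`, `UV ⨯ W`.
-/

set_option autoImplicit false
set_option maxHeartbeats 4000000
set_option synthInstance.maxHeartbeats 400000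
set_option linter.style.haveILetI false
set_option linter.unusedSectionVars false
set_option linter.unusedVariables false
set_option linter.unusedSimpArgs false
set_option linter.unnecessarySimpa false

universe w v u
open CategoryTheory CategoryTheory.Limits Opposite

namespace Groth.Agent.Helper2.GlueTwo

variable {C : Type u} [Category.{v} C]

/-- The sieve of arrows factoring through one of two given arrows. -/
def twoSieve {Y A₁ A₂ : C} (p₁ : A₁ ⟶ Y) (p₂ : A₂ ⟶ Y) : Sieve Y where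
  arrows Z g := (∃ k : Z ⟶ A₁, k ≫ p₁ = g) ∨ (∃ k : Z ⟶ A₂, k ≫ p₂ = g)
  downward_closed := by
    rintro Z Z' g (⟨k, rfl⟩ | ⟨k, rfl⟩) h
    · exact Or.inl ⟨h ≫ k, Category.assoc _ _ _⟩
    · exact Or.inr ⟨h ≫ k, Category.assoc _ _ _⟩

/-- The sieve of arrows equalizing `q`, `q'` or whose source maps to `U`. -/
def eqSieve (U : C) {Z V : C} (q q' : Z ⟶ V) : Sieve Z where
  arrows Z' h := h ≫ q = h ≫ q' ∨ Nonempty (Z' ⟶ U)
  downward_closed := by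
    rintro Z₁ Z₂ h hh g
    rcases hh with e | hu
    · exact Or.inl (by rw [Category.assoc, e, Category.assoc])
    · exact Or.inr (hu.map (fun u => g ≫ u))

variable {J : GrothendieckTopology C} {P : Cᵒᵖ ⥤ Type w}

theorem map_comp_apply' {X Y Z : C} (f : X ⟶ Y) (g : Y ⟶ Z) (x : P.obj (op Z)) :
    P.map (f ≫ g).op x = P.map f.op (P.map g.op x) := by
  rw [op_comp, FunctorToTypes.map_comp_apply]

theorem map_id_apply' {X : C} (x : P.obj (op X)) : P.map (𝟙 X).op x = x := by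
  rw [op_id, FunctorToTypes.map_id_apply]

theorem ext_two (hP : Presieve.IsSheaf J P) {Y A₁ A₂ : C} (p₁ : A₁ ⟶ Y) (p₂ : A₂ ⟶ Y)
    (hcov : twoSieve p₁ p₂ ∈ J Y) {x y : P.obj (op Y)}
    (h₁ : P.map p₁.op x = P.map p₁.op y) (h₂ : P.map p₂.op x = P.map p₂.op y) : x = y := by
  refine (hP _ hcov).isSeparatedFor.ext ?_
  intro Z g hg
  obtain ⟨k, rfl⟩ | ⟨k, rfl⟩ := hg
  · rw [map_comp_apply', map_comp_apply', h₁]
  · rw [map_comp_apply', map_comp_apply', h₂]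

theorem glue_two (hP : Presieve.IsSheaf J P) {Y A₁ A₂ O : C}
    (p₁ : A₁ ⟶ Y) (p₂ : A₂ ⟶ Y) (o₁ : O ⟶ A₁) (o₂ : O ⟶ A₂)
    (hcov : twoSieve p₁ p₂ ∈ J Y)
    (hmono : ∀ {Z : C} (g g' : Z ⟶ A₁), g ≫ p₁ = g' ≫ p₁ → g = g')
    (hO : ∀ {Z : C} (g₁ : Z ⟶ A₁) (g₂ : Z ⟶ A₂), g₁ ≫ p₁ = g₂ ≫ p₂ →
      ∃ k : Z ⟶ O, k ≫ o₁ = g₁ ∧ k ≫ o₂ = g₂)
    (h22 : ∀ {Z : C} (g g' : Z ⟶ A₂), g ≫ p₂ = g' ≫ p₂ →
      ∃ S : Sieve Z, S ∈ J Z ∧ ∀ {Z' : C} (h : Z' ⟶ Z), S h →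
        (h ≫ g = h ≫ g' ∨ ∃ k k' : Z' ⟶ O, k ≫ o₂ = h ≫ g ∧ k' ≫ o₂ = h ≫ g' ∧
          k ≫ o₁ = k' ≫ o₁))
    (a : P.obj (op A₁)) (b : P.obj (op A₂)) (hab : P.map o₁.op a = P.map o₂.op b) :
    ∃ x : P.obj (op Y), P.map p₁.op x = a ∧ P.map p₂.op x = b := by
  classical
  have hb : ∀ {Z : C} (g g' : Z ⟶ A₂), g ≫ p₂ = g' ≫ p₂ → P.map g.op b = P.map g'.op b := by
    intro Z g g' hgg
    obtain ⟨S, hS, hS'⟩ := h22 g g' hgg
    refine (hP S hS).isSeparatedFor.ext ?_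
    intro Z' h hh
    rw [← map_comp_apply', ← map_comp_apply']
    rcases hS' h hh with e | ⟨k, k', hk, hk', hkk⟩
    · rw [e]
    · rw [← hk, ← hk', map_comp_apply', map_comp_apply', ← hab, ← map_comp_apply',
        ← map_comp_apply', hkk]
  have hab' : ∀ {Z : C} (g₁ : Z ⟶ A₁) (g₂ : Z ⟶ A₂), g₁ ≫ p₁ = g₂ ≫ p₂ →
      P.map g₁.op a = P.map g₂.op b := by
    intro Z g₁ g₂ h
    obtain ⟨k, hk₁, hk₂⟩ := hO g₁ g₂ h
    rw [← hk₁, ← hk₂, map_comp_apply', map_comp_apply', hab]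
  let fam : Presieve.FamilyOfElements P (twoSieve p₁ p₂).arrows := fun Z g hg =>
    if h : ∃ k : Z ⟶ A₁, k ≫ p₁ = g then P.map (Classical.choose h).op a
    else P.map (Classical.choose (hg.resolve_left h)).op b
  have F1 : ∀ {Z : C} (g : Z ⟶ Y) (hg : (twoSieve p₁ p₂).arrows g) (k : Z ⟶ A₁),
      k ≫ p₁ = g → fam g hg = P.map k.op a := by
    intro Z g hg k hk
    have h : ∃ k' : Z ⟶ A₁, k' ≫ p₁ = g := ⟨k, hk⟩
    have e : fam g hg = P.map (Classical.choose h).op a := dif_pos h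
    rw [e, hmono _ _ ((Classical.choose_spec h).trans hk.symm)]
  have F2 : ∀ {Z : C} (g : Z ⟶ Y) (hg : (twoSieve p₁ p₂).arrows g) (k : Z ⟶ A₂),
      k ≫ p₂ = g → fam g hg = P.map k.op b := by
    intro Z g hg k hk
    by_cases h : ∃ k' : Z ⟶ A₁, k' ≫ p₁ = g
    · have e : fam g hg = P.map (Classical.choose h).op a := dif_pos h
      rw [e]
      exact hab' _ _ ((Classical.choose_spec h).trans hk.symm)
    · have e : fam g hg = P.map (Classical.choose (hg.resolve_left h)).op b := dif_neg h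
      rw [e]
      exact hb _ _ ((Classical.choose_spec (hg.resolve_left h)).trans hk.symm)
  have hcompat : fam.Compatible := by
    rw [Presieve.compatible_iff_sieveCompatible]
    intro Z Z' g h hg
    obtain ⟨k, hk⟩ | ⟨k, hk⟩ :=
      (show (∃ k : Z ⟶ A₁, k ≫ p₁ = g) ∨ (∃ k : Z ⟶ A₂, k ≫ p₂ = g) from hg)
    · rw [F1 g hg k hk, F1 (h ≫ g) ((twoSieve p₁ p₂).downward_closed hg h) (h ≫ k)
        (by rw [Category.assoc, hk]), map_comp_apply']
    · rw [F2 g hg k hk, F2 (h ≫ g) ((twoSieve p₁ p₂).downward_closed hg h) (h ≫ k)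
        (by rw [Category.assoc, hk]), map_comp_apply']
  have h1 : (twoSieve p₁ p₂).arrows p₁ := Or.inl ⟨𝟙 _, Category.id_comp _⟩
  have h2 : (twoSieve p₁ p₂).arrows p₂ := Or.inr ⟨𝟙 _, Category.id_comp _⟩
  refine ⟨(hP _ hcov).amalgamate fam hcompat, ?_, ?_⟩
  · rw [(hP _ hcov).valid_glue hcompat p₁ h1, F1 p₁ h1 (𝟙 _) (Category.id_comp _),
      map_id_apply']
  · rw [(hP _ hcov).valid_glue hcompat p₂ h2, F2 p₂ h2 (𝟙 _) (Category.id_comp _),
      map_id_apply']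

section Prod

variable [HasBinaryProducts C] {U V UV : C} {π₁ : UV ⟶ U} {π₂ : UV ⟶ V}
  (hUV : IsLimit (BinaryFan.mk π₁ π₂))

attribute [local simp] prod.lift_fst prod.lift_snd prod.lift_fst_assoc prod.lift_snd_assoc

/-- Lift into the abstract product `UV`. -/
noncomputable def uvLift {Z : C} (a : Z ⟶ U) (b : Z ⟶ V) : Z ⟶ UV :=
  (BinaryFan.IsLimit.lift' hUV a b).1

@[reassoc (attr := simp)]
theorem uvLift_fst {Z : C} (a : Z ⟶ U) (b : Z ⟶ V) : uvLift hUV a b ≫ π₁ = a :=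
  (BinaryFan.IsLimit.lift' hUV a b).2.1

@[reassoc (attr := simp)]
theorem uvLift_snd {Z : C} (a : Z ⟶ U) (b : Z ⟶ V) : uvLift hUV a b ≫ π₂ = b :=
  (BinaryFan.IsLimit.lift' hUV a b).2.2

include hUV in
theorem uv_ext {Z : C} {f g : Z ⟶ UV} (h₁ : f ≫ π₁ = g ≫ π₁) (h₂ : f ≫ π₂ = g ≫ π₂) :
    f = g :=
  BinaryFan.IsLimit.hom_ext hUV h₁ h₂

/-- The section `V ⨯ W ⟶ UV ⨯ W` defined by a map `W ⟶ U`. -/
noncomputable def sigma {W : C} (u : W ⟶ U) : V ⨯ W ⟶ UV ⨯ W :=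
  prod.lift (uvLift hUV (prod.snd ≫ u) prod.fst) prod.snd

theorem map_sigma (hU : ∀ {Z : C} (a b : Z ⟶ U), a = b) {W : C} (u : W ⟶ U) :
    prod.map π₂ (𝟙 W) ≫ sigma hUV u = 𝟙 (UV ⨯ W) := by
  apply Limits.prod.hom_ext
  · apply uv_ext hUV
    · exact hU _ _
    · simp [sigma]
  · simp [sigma]

/-- The section `U ⨯ W ⟶ UV ⨯ W` defined by a map `W ⟶ V`. -/
noncomputable def delta {W : C} (v : W ⟶ V) : U ⨯ W ⟶ UV ⨯ W :=
  prod.lift (uvLift hUV prod.fst (prod.snd ≫ v)) prod.snd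

theorem delta_map {W : C} (v : W ⟶ V) :
    delta hUV v ≫ prod.map π₁ (𝟙 W) = 𝟙 (U ⨯ W) := by
  apply Limits.prod.hom_ext <;> simp [delta]

theorem delta_map_snd {W : C} (v : W ⟶ V) :
    delta hUV v ≫ prod.map π₂ (𝟙 W) = prod.snd ≫ prod.lift v (𝟙 W) := by
  apply Limits.prod.hom_ext <;> simp [delta]

include hUV in
theorem glue_fst (hP : Presieve.IsSheaf J P) (hU : ∀ {Z : C} (a b : Z ⟶ U), a = b) (W : C)
    (hcov : twoSieve (prod.snd : U ⨯ W ⟶ W) (prod.snd : V ⨯ W ⟶ W) ∈ J W)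
    (heq : ∀ {Z : C} (q q' : Z ⟶ V), eqSieve U q q' ∈ J Z)
    (a : P.obj (op (U ⨯ W))) (b : P.obj (op (V ⨯ W)))
    (hab : P.map (prod.map π₁ (𝟙 W)).op a = P.map (prod.map π₂ (𝟙 W)).op b) :
    ∃ x : P.obj (op W), P.map (prod.snd : U ⨯ W ⟶ W).op x = a ∧
      P.map (prod.snd : V ⨯ W ⟶ W).op x = b := by
  refine glue_two hP (prod.snd : U ⨯ W ⟶ W) (prod.snd : V ⨯ W ⟶ W) (prod.map π₁ (𝟙 W))
    (prod.map π₂ (𝟙 W)) hcov ?_ ?_ ?_ a b hab
  · intro Z g g' h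
    apply Limits.prod.hom_ext
    · exact hU _ _
    · exact h
  · intro Z g₁ g₂ h
    refine ⟨prod.lift (uvLift hUV (g₁ ≫ prod.fst) (g₂ ≫ prod.fst)) (g₁ ≫ prod.snd), ?_, ?_⟩
    · apply Limits.prod.hom_ext <;> simp
    · apply Limits.prod.hom_ext
      · simp
      · simp [h]
  · intro Z g g' h
    refine ⟨eqSieve U (g ≫ prod.fst) (g' ≫ prod.fst), heq _ _, ?_⟩
    intro Z' k hk
    rcases hk with e | hu
    · left
      apply Limits.prod.hom_ext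
      · simpa using e
      · simp [h]
    · right
      obtain ⟨u⟩ := hu
      refine ⟨prod.lift (uvLift hUV u (k ≫ g ≫ prod.fst)) (k ≫ g ≫ prod.snd),
        prod.lift (uvLift hUV u (k ≫ g' ≫ prod.fst)) (k ≫ g' ≫ prod.snd), ?_, ?_, ?_⟩
      · apply Limits.prod.hom_ext <;> simp
      · apply Limits.prod.hom_ext <;> simp
      · apply Limits.prod.hom_ext
        · simp
        · simp [h]

theorem glue_snd (hP : Presieve.IsSheaf J P) (hU : ∀ {Z : C} (a b : Z ⟶ U), a = b) {W : C}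
    (v : W ⟶ V)
    (heq : eqSieve U (prod.fst : V ⨯ W ⟶ V) (prod.snd ≫ v) ∈ J (V ⨯ W))
    (y : P.obj (op (UV ⨯ W))) (y₀ : P.obj (op W))
    (hy : P.map (delta hUV v).op y = P.map (prod.snd : U ⨯ W ⟶ W).op y₀) :
    ∃ b : P.obj (op (V ⨯ W)), P.map (prod.map π₂ (𝟙 W)).op b = y := by
  have hmono : ∀ {Z : C} (g g' : Z ⟶ UV ⨯ W),
      g ≫ prod.map π₂ (𝟙 W) = g' ≫ prod.map π₂ (𝟙 W) → g = g' := by
    intro Z g g' h
    have h1 : g ≫ prod.fst ≫ π₂ = g' ≫ prod.fst ≫ π₂ := by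
      have := congrArg (fun k => k ≫ prod.fst) h
      simpa using this
    have h2 : g ≫ prod.snd = g' ≫ prod.snd := by
      have := congrArg (fun k => k ≫ prod.snd) h
      simpa using this
    apply Limits.prod.hom_ext
    · apply uv_ext hUV
      · exact hU _ _
      · simpa using h1
    · exact h2
  have hcov : twoSieve (prod.map π₂ (𝟙 W)) (prod.lift v (𝟙 W)) ∈ J (V ⨯ W) := by
    refine J.superset_covering ?_ heq
    intro Z' h hh
    rcases hh with e | hu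
    · right
      refine ⟨h ≫ prod.snd, ?_⟩
      apply Limits.prod.hom_ext
      · simpa using e.symm
      · simp
    · left
      obtain ⟨u⟩ := hu
      refine ⟨prod.lift (uvLift hUV u (h ≫ prod.fst)) (h ≫ prod.snd), ?_⟩
      apply Limits.prod.hom_ext <;> simp
  have hO : ∀ {Z : C} (g₁ : Z ⟶ UV ⨯ W) (g₂ : Z ⟶ W),
      g₁ ≫ prod.map π₂ (𝟙 W) = g₂ ≫ prod.lift v (𝟙 W) →
      ∃ k : Z ⟶ U ⨯ W, k ≫ delta hUV v = g₁ ∧ k ≫ prod.snd = g₂ := by
    intro Z g₁ g₂ h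
    refine ⟨prod.lift (g₁ ≫ prod.fst ≫ π₁) g₂, ?_, ?_⟩
    · apply hmono
      rw [Category.assoc, delta_map_snd, prod.lift_snd_assoc]
      exact h.symm
    · simp
  have h22 : ∀ {Z : C} (g g' : Z ⟶ W), g ≫ prod.lift v (𝟙 W) = g' ≫ prod.lift v (𝟙 W) →
      ∃ S : Sieve Z, S ∈ J Z ∧ ∀ {Z' : C} (h : Z' ⟶ Z), S h →
        (h ≫ g = h ≫ g' ∨ ∃ k k' : Z' ⟶ U ⨯ W, k ≫ prod.snd = h ≫ g ∧ k' ≫ prod.snd = h ≫ g' ∧
          k ≫ delta hUV v = k' ≫ delta hUV v) := by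
    intro Z g g' h
    have hgg : g = g' := by
      have := congrArg (fun k => k ≫ prod.snd) h
      simpa using this
    exact ⟨⊤, J.top_mem _, fun k _ => Or.inl (by rw [hgg])⟩
  obtain ⟨b, hb, -⟩ := glue_two hP (prod.map π₂ (𝟙 W)) (prod.lift v (𝟙 W)) (delta hUV v)
    (prod.snd : U ⨯ W ⟶ W) hcov hmono hO h22 y y₀ hy
  exact ⟨b, hb⟩

end Prod

end Groth.Agent.Helper2.GlueTwo
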