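import Mathlib
import Groth.Prelude.Def_BigSite

/-!
# Almost cocontinuous functors between arbitrary sites (helper2)

Universe-general version of helper5's `Lib/Helper5/Misc/AlmostCocont.lean`, `S6441`, `S6440`:
the pushforward along a continuous almost cocontinuous functor preserves finite connected colimits
of sheaves of sets and epimorphisms of abelian sheaves.
-/

set_option autoImplicit false
set_option maxHeartbeats 4000000
set_option synthInstance.maxHeartbeats 400000
set_option linter.style.haveILetI false
set_option linter.unusedSectionVars false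
set_option linter.unusedVariables false
set_option linter.unusedSimpArgs false
set_option linter.unnecessarySimpa false

universe w v₁ u₁ v₂ u₂
open CategoryTheory CategoryTheory.Limits Opposite

namespace Groth.Agent.Helper2.AlmostCocontGen

variable {C : Type u₁} [Category.{v₁} C] {D : Type u₂} [Category.{v₂} D]
  (J : GrothendieckTopology C) (K : GrothendieckTopology D) (u : C ⥤ D)

section concrete

variable {A : Type*} [Category A] {FA : A → A → Type*} {CA : A → Type w}
  [∀ X Y, FunLike (FA X Y) (CA X) (CA Y)] [ConcreteCategory.{w} A FA]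

lemma locInj (hu : BigSite.IsAlmostCocontinuous u J K) {G G' : Dᵒᵖ ⥤ A} (φ : G ⟶ G')
    (hG : ∀ V : D, (⊥ : Sieve V) ∈ K V → Subsingleton (ToType (G.obj (op V))))
    [Presheaf.IsLocallyInjective K φ] :
    Presheaf.IsLocallyInjective J (Functor.whiskerLeft u.op φ) := by
  constructor
  intro X x y h
  have hR := Presheaf.equalizerSieve_mem K φ (X := op (u.obj X.unop)) x y h
  obtain ⟨R', hR', hR''⟩ := hu X.unop _ hR
  refine J.superset_covering ?_ hR'
  intro V g hg
  rcases hR'' g hg with h0 | h1
  · have := hG _ h0
    exact Subsingleton.elim _ _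
  · exact h1

lemma locSurj (hu : BigSite.IsAlmostCocontinuous u J K) {G G' : Dᵒᵖ ⥤ A} (φ : G ⟶ G')
    (hG : ∀ V : D, (⊥ : Sieve V) ∈ K V → Nonempty (ToType (G.obj (op V))))
    (hG' : ∀ V : D, (⊥ : Sieve V) ∈ K V → Subsingleton (ToType (G'.obj (op V))))
    [Presheaf.IsLocallySurjective K φ] :
    Presheaf.IsLocallySurjective J (Functor.whiskerLeft u.op φ) := by
  constructor
  intro U s
  have hR := Presheaf.imageSieve_mem K φ (U := op (u.obj U)) s
  obtain ⟨R', hR', hR''⟩ := hu U _ hR
  refine J.superset_covering ?_ hR'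
  intro V g hg
  rcases hR'' g hg with h0 | h1
  · obtain ⟨t⟩ := hG _ h0
    have := hG' _ h0
    exact ⟨t, Subsingleton.elim _ _⟩
  · exact h1

end concrete

section types

/-- A sheaf of types has at most one section over an object covered by the empty sieve. -/
lemma subsingleton_of_bot {F : Dᵒᵖ ⥤ Type w} (hF : Presheaf.IsSheaf K F) (V : D)
    (hV : (⊥ : Sieve V) ∈ K V) : Subsingleton (F.obj (op V)) := by
  constructor
  intro a b
  have hs := ((isSheaf_iff_isSheaf_of_type K F).1 hF).isSeparated _ hV
  exact hs.ext (fun Y f hf => hf.elim)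

variable [HasSheafify J (Type w)] [HasSheafify K (Type w)]
  [J.WEqualsLocallyBijective (Type w)] [K.WEqualsLocallyBijective (Type w)]

/-- `u^p` of the sheafification unit is in `J.W`. -/
lemma W_whisker (hu : BigSite.IsAlmostCocontinuous u J K) (G : Dᵒᵖ ⥤ Type w)
    (hG : ∀ V : D, (⊥ : Sieve V) ∈ K V → Nonempty (Unique (G.obj (op V)))) :
    J.W (Functor.whiskerLeft u.op (toSheafify K G)) := by
  have h1 : Presheaf.IsLocallyInjective J (Functor.whiskerLeft u.op (toSheafify K G)) :=
    locInj J K u hu _ (fun V hV => by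
      obtain ⟨h⟩ := hG V hV
      infer_instance)
  have h2 : Presheaf.IsLocallySurjective J (Functor.whiskerLeft u.op (toSheafify K G)) :=
    locSurj J K u hu _ (fun V hV => by
      obtain ⟨h⟩ := hG V hV
      exact ⟨h.default⟩) (fun V hV =>
      subsingleton_of_bot K ((presheafToSheaf K (Type w)).obj G).property V hV)
  exact J.W_of_isLocallyBijective _

variable [u.IsContinuous J K]

theorem theta_isIso (hu : BigSite.IsAlmostCocontinuous u J K) (G : Dᵒᵖ ⥤ Type w)
    (hG : ∀ V : D, (⊥ : Sieve V) ∈ K V → Nonempty (Unique (G.obj (op V)))) :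
    IsIso (((sheafificationAdjunction J (Type w)).homEquiv (u.op ⋙ G)
      ((u.sheafPushforwardContinuous (Type w) J K).obj ((presheafToSheaf K (Type w)).obj G))).symm
        (Functor.whiskerLeft u.op (toSheafify K G))) := by
  erw [Adjunction.homEquiv_counit]
  have h1 : IsIso ((presheafToSheaf J (Type w)).map
      (Functor.whiskerLeft u.op (toSheafify K G))) :=
    (J.W_iff _).1 (W_whisker J K u hu G hG)
  have h2 : IsIso ((sheafificationAdjunction J (Type w)).counit.app
        ((u.sheafPushforwardContinuous (Type w) J K).obj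
          ((presheafToSheaf K (Type w)).obj G))) :=
    inferInstance
  exact IsIso.comp_isIso' h1 h2

/-- The colimit of a connected diagram of singletons is a singleton. -/
lemma unique_of_isColimit {I : Type} [SmallCategory I] [IsConnected I] {H : I ⥤ Type w}
    (h : ∀ i, Nonempty (Unique (H.obj i))) {t : Cocone H} (ht : IsColimit t) :
    Nonempty (Unique t.pt) := by
  classical
  have hu : ∀ i, Unique (H.obj i) := fun i => (h i).some
  obtain ⟨i0⟩ := (inferInstance : Nonempty I)
  let φ : I → t.pt := fun i => t.ι.app i (hu i).default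
  have hφ : ∀ i j, φ i = φ j := by
    apply constant_of_preserves_morphisms φ
    intro i j f
    have h1 : H.map f (hu i).default = (hu j).default := (hu j).uniq _
    have h2 := ConcreteCategory.congr_hom (t.w f) (hu i).default
    simp only [φ]
    rw [← h1]
    exact h2.symm
  refine ⟨⟨⟨φ i0⟩, ?_⟩⟩
  intro y
  obtain ⟨j, z, rfl⟩ := Types.jointly_surjective_of_isColimit ht y
  have : z = (hu j).default := (hu j).uniq z
  rw [this]
  exact hφ j i0

lemma hG_colimit {I : Type} [SmallCategory I] [IsConnected I] (F : I ⥤ Sheaf K (Type w))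
    (E : Cocone (F ⋙ sheafToPresheaf K (Type w))) (hE : IsColimit E)
    (V : D) (hV : (⊥ : Sieve V) ∈ K V) : Nonempty (Unique (E.pt.obj (op V))) := by
  have hE' := isColimitOfPreserves ((evaluation Dᵒᵖ (Type w)).obj (op V)) hE
  refine unique_of_isColimit (fun i => ?_) hE'
  have ht := Sheaf.isTerminalOfBotCover (F.obj i) V hV
  exact ⟨(Types.isTerminalEquivUnique _).1 ht⟩

lemma preserves_aux (hu : BigSite.IsAlmostCocontinuous u J K)
    {I : Type} [SmallCategory I] [FinCategory I] [IsConnected I] (F : I ⥤ Sheaf K (Type w)) :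
    PreservesColimit F (u.sheafPushforwardContinuous (Type w) J K) := by
  -- the presheaf colimit cocone
  let E : Cocone (F ⋙ sheafToPresheaf K (Type w)) := colimit.cocone _
  have hE : IsColimit E := colimit.isColimit _
  have hG := hG_colimit K F E hE
  -- its image under `u^p`
  let up : (Dᵒᵖ ⥤ Type w) ⥤ (Cᵒᵖ ⥤ Type w) := (Functor.whiskeringLeft _ _ (Type w)).obj u.op
  let E' : Cocone ((F ⋙ u.sheafPushforwardContinuous (Type w) J K) ⋙
      sheafToPresheaf J (Type w)) := up.mapCocone E
  have hE' : IsColimit E' := isColimitOfPreserves up hE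
  apply preservesColimit_of_preserves_colimit_cocone (Sheaf.isColimitSheafifyCocone E hE)
  refine IsColimit.ofIsoColimit (Sheaf.isColimitSheafifyCocone E' hE') ?_
  let θ := ((sheafificationAdjunction J (Type w)).homEquiv (u.op ⋙ E.pt)
      ((u.sheafPushforwardContinuous (Type w) J K).obj ((presheafToSheaf K (Type w)).obj E.pt))).symm
        (Functor.whiskerLeft u.op (toSheafify K E.pt))
  have hθ : IsIso θ := theta_isIso J K u hu E.pt hG
  have hθ' : toSheafify J (u.op ⋙ E.pt) ≫ θ.hom =
      Functor.whiskerLeft u.op (toSheafify K E.pt) := by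
    have := ((sheafificationAdjunction J (Type w)).homEquiv (u.op ⋙ E.pt)
      ((u.sheafPushforwardContinuous (Type w) J K).obj
        ((presheafToSheaf K (Type w)).obj E.pt))).apply_symm_apply
        (Functor.whiskerLeft u.op (toSheafify K E.pt))
    rw [Adjunction.homEquiv_unit] at this
    exact this
  refine Cocone.ext (@asIso _ _ _ _ θ hθ) (fun i => ?_)
  apply Sheaf.hom_ext
  have e1 := Sheaf.sheafifyCocone_ι_app_val E' i
  have e2 := Sheaf.sheafifyCocone_ι_app_val E i
  let a : (u.op ⋙ (F.obj i).obj) ⟶ (u.op ⋙ E.pt) := Functor.whiskerLeft u.op (E.ι.app i)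
  let b : (u.op ⋙ (F.obj i).obj) ⟶ (sheafify J (u.op ⋙ E.pt)) :=
    ((Sheaf.sheafifyCocone E').ι.app i).hom
  have e1' : b = a ≫ toSheafify J (u.op ⋙ E.pt) := e1
  have key : b ≫ θ.hom =
      Functor.whiskerLeft u.op ((Sheaf.sheafifyCocone E).ι.app i).hom := by
    rw [e1', e2, Category.assoc, hθ']
    rfl
  exact key

/-- The pushforward along a continuous almost cocontinuous functor preserves finite connected
colimits of sheaves of sets. -/
theorem preservesColimitsOfShape (hu : BigSite.IsAlmostCocontinuous u J K)
    (I : Type) [SmallCategory I] [FinCategory I] [IsConnected I] :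
    PreservesColimitsOfShape I (u.sheafPushforwardContinuous (Type w) J K) := by
  constructor
  intro F
  exact preserves_aux J K u hu F

end types

section ab

variable [u.IsContinuous J K] [K.WEqualsLocallyBijective AddCommGrpCat.{w}]
  [HasSheafify K AddCommGrpCat.{w}] [K.HasSheafCompose (forget AddCommGrpCat.{w})]
  [Balanced (Sheaf K AddCommGrpCat.{w})] [J.HasSheafCompose (forget AddCommGrpCat.{w})]

/-- An abelian sheaf has only the zero section over an object covered by the empty sieve. -/
lemma subsingleton_ab (F : Sheaf K AddCommGrpCat.{w}) (V : D) (hV : (⊥ : Sieve V) ∈ K V) :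
    Subsingleton (F.obj.obj (op V)) := by
  have ht := Sheaf.isTerminalOfBotCover F V hV
  have hz : IsZero (F.obj.obj (op V)) :=
    (isZero_zero _).of_iso (ht.uniqueUpToIso HasZeroObject.zeroIsTerminal)
  exact AddCommGrpCat.subsingleton_of_isZero hz

/-- The pushforward along a continuous almost cocontinuous functor preserves epimorphisms of
abelian sheaves. -/
theorem epi_map_ab (hu : BigSite.IsAlmostCocontinuous u J K) {F G : Sheaf K AddCommGrpCat.{w}}
    (φ : F ⟶ G) [Epi φ] :
    Epi ((u.sheafPushforwardContinuous AddCommGrpCat.{w} J K).map φ) := by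
  haveI h1 : Sheaf.IsLocallySurjective φ :=
    (Sheaf.isLocallySurjective_iff_epi' (A := AddCommGrpCat.{w}) (φ := φ)).mpr inferInstance
  have h2 : Presheaf.IsLocallySurjective J (Functor.whiskerLeft u.op φ.hom) :=
    locSurj J K u hu φ.hom (fun V hV => ⟨0⟩) (fun V hV => subsingleton_ab K G V hV)
  haveI h3 : Sheaf.IsLocallySurjective
      ((u.sheafPushforwardContinuous AddCommGrpCat.{w} J K).map φ) := h2
  exact Sheaf.epi_of_isLocallySurjective _

end ab

end Groth.Agent.Helper2.AlmostCocontGen
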